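import Groth.Agent.HilbPolyLib.NumPoly
import Mathlib.Algebra.MvPolynomial.Monad

/-!
# Eventually polynomial functions on `ℕ^n`
-/

set_option autoImplicit false

open MvPolynomial

namespace MixedHSLib

variable {n : ℕ}

/-- A function agreeing with a polynomial above some corner. -/
def EvP (f : (Fin n → ℕ) → ℚ) : Prop :=
  ∃ P : MvPolynomial (Fin n) ℚ, ∃ m : Fin n → ℕ, ∀ i, m ≤ i → f i = eval (fun j => (i j : ℚ)) P

theorem EvP.add {f g : (Fin n → ℕ) → ℚ} (hf : EvP f) (hg : EvP g) : EvP (f + g) := by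
  obtain ⟨P, m, hP⟩ := hf
  obtain ⟨Q, m', hQ⟩ := hg
  exact ⟨P + Q, m ⊔ m', fun i hi => by
    rw [Pi.add_apply, hP i (le_sup_left.trans hi), hQ i (le_sup_right.trans hi), map_add]⟩

theorem EvP.sub {f g : (Fin n → ℕ) → ℚ} (hf : EvP f) (hg : EvP g) : EvP (f - g) := by
  obtain ⟨P, m, hP⟩ := hf
  obtain ⟨Q, m', hQ⟩ := hg
  exact ⟨P - Q, m ⊔ m', fun i hi => by
    rw [Pi.sub_apply, hP i (le_sup_left.trans hi), hQ i (le_sup_right.trans hi), map_sub]⟩

theorem EvP.congr {f g : (Fin n → ℕ) → ℚ} (hf : EvP f) {m' : Fin n → ℕ} (h : ∀ i, m' ≤ i → g i = f i) :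
    EvP g := by
  obtain ⟨P, m, hP⟩ := hf
  exact ⟨P, m ⊔ m', fun i hi => (h i (le_sup_right.trans hi)).trans (hP i (le_sup_left.trans hi))⟩

theorem evP_of_eventually_zero {f : (Fin n → ℕ) → ℚ} {k : ℕ} (h : ∀ i, k ≤ ∑ j, i j → f i = 0) : EvP f := by
  rcases Nat.eq_zero_or_pos n with rfl | hn
  · exact ⟨C (f 0), 0, fun i _ => by rw [eval_C, Subsingleton.elim i 0]⟩
  · exact ⟨0, fun _ => k, fun i hi => by
      rw [map_zero]
      exact h i ((hi ⟨0, hn⟩).trans (Finset.single_le_sum (fun j _ => Nat.zero_le _) (Finset.mem_univ _)))⟩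

theorem eval_mem_polyFun (P : MvPolynomial (Fin n) ℚ) :
    ∃ d, (fun i => eval (fun j => ((i : Fin n → ℕ) j : ℚ)) P) ∈ HilbPolyLib.polyFun n d := by
  induction P using MvPolynomial.induction_on' with
  | monomial s a =>
    refine ⟨∑ j, s j + 1, ?_⟩
    convert Submodule.smul_mem (HilbPolyLib.polyFun n (∑ j, s j + 1)) a
      (HilbPolyLib.monFun_mem (m := fun j => s j) (Nat.lt_succ_self _)) using 1
    funext i
    rw [Pi.smul_apply, smul_eq_mul, eval_monomial, Finsupp.prod_fintype _ _ (fun _ => pow_zero _)]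
    rfl
  | add p q hp hq =>
    obtain ⟨d, hd⟩ := hp
    obtain ⟨e, he⟩ := hq
    refine ⟨max d e, ?_⟩
    convert add_mem (HilbPolyLib.polyFun_mono (le_max_left d e) hd)
      (HilbPolyLib.polyFun_mono (le_max_right d e) he) using 1
    funext i
    simp

/-- Functions with eventually polynomial differences are eventually polynomial. -/
theorem evP_of_diff {f : (Fin n → ℕ) → ℚ} (h : ∀ j, EvP (HilbPolyLib.diff j f)) : EvP f := by
  choose P m hP using h
  let M : Fin n → ℕ := Finset.univ.sup m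
  let Q : Fin n → MvPolynomial (Fin n) ℚ := fun j => bind₁ (fun l => X l + C (M l : ℚ)) (P j)
  let g : (Fin n → ℕ) → ℚ := fun i => f (i + M)
  have hg : ∀ j, HilbPolyLib.diff j g = fun i => eval (fun l => ((i : Fin n → ℕ) l : ℚ)) (Q j) := fun j => by
    funext i
    have h1 : Function.update i j (i j + 1) + M = Function.update (i + M) j ((i + M) j + 1) := by
      funext l
      rcases eq_or_ne l j with rfl | hl
      · simp only [Pi.add_apply, Function.update_self]; omega
      · simp [Function.update_of_ne hl]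
    show f (Function.update i j (i j + 1) + M) - f (i + M) = _
    rw [h1]
    refine (hP j (i + M) (le_trans (Finset.le_sup (f := m) (Finset.mem_univ j)) le_add_self)).trans ?_
    simp only [Q, eval, eval₂Hom_bind₁]
    simp
  choose d hd using fun j => eval_mem_polyFun (Q j)
  have hgp := HilbPolyLib.mem_of_diff g (d := Finset.univ.sup d) fun j => by
    rw [hg j]; exact HilbPolyLib.polyFun_mono (Finset.le_sup (Finset.mem_univ j)) (hd j)
  obtain ⟨R, -, hR⟩ := HilbPolyLib.exists_mvPolynomial hgp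
  refine ⟨bind₁ (fun l => X l - C (M l : ℚ)) R, M, fun i hi => ?_⟩
  rw [show i = (i - M) + M from funext fun l => (Nat.sub_add_cancel (hi l)).symm]
  refine (hR (i - M)).trans ?_
  rw [eval, eval, eval₂Hom_bind₁]
  simp

theorem EvP.shift {f : (Fin n → ℕ) → ℚ} (hf : EvP f) (j : Fin n) :
    EvP (fun i => f (Function.update i j (i j + 1))) := by
  obtain ⟨P, m, hP⟩ := hf
  refine ⟨bind₁ (Function.update X j (X j + 1)) P, m, fun i hi => ?_⟩
  refine (hP _ (fun l => ?_)).trans ?_
  · rcases eq_or_ne l j with rfl | hl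
    · rw [Function.update_self]; exact (hi l).trans (Nat.le_succ _)
    · rw [Function.update_of_ne hl]; exact hi l
  · rw [eval, eval, eval₂Hom_bind₁]
    refine congrArg (fun v => eval₂Hom (RingHom.id ℚ) v P) (funext fun l => ?_)
    rcases eq_or_ne l j with rfl | hl
    · simp
    · simp [Function.update_of_ne hl]

end MixedHSLib
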