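import Groth.Agent.MixedHSLib.Multigraded
import Groth.Agent.CommAlgDim.HilbertSamuel
import Mathlib.Algebra.MvPolynomial.Funext
import Mathlib.RingTheory.MvPolynomial.Homogeneous
import Mathlib.RingTheory.Polynomial.Basic

/-!
# The mixed Hilbert–Samuel polynomial
-/

set_option autoImplicit false

universe u v

open MvPolynomial

namespace MixedHSLib

variable {R : Type u} [CommRing R] {M : Type v} [AddCommGroup M] [Module R M] {n : ℕ}

theorem up_comm (i : Fin n → ℕ) (j l : Fin n) : up (up i j) l = up (up i l) j := by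
  rcases eq_or_ne j l with rfl | h
  · rfl
  · simp only [up, Function.update_of_ne h, Function.update_of_ne h.symm]
    exact Function.update_comm h _ _ _

/-- The product `∏ aⱼ ^ iⱼ • M`. -/
abbrev pw (I : Fin n → Ideal R) (M : Type v) [AddCommGroup M] [Module R M] (i : Fin n → ℕ) : Submodule R M :=
  (∏ j, I j ^ i j) • (⊤ : Submodule R M)

theorem prod_up (I : Fin n → Ideal R) (i : Fin n → ℕ) (j : Fin n) :
    ∏ l, I l ^ up i j l = I j * ∏ l, I l ^ i l := by
  rw [← Finset.mul_prod_erase _ _ (Finset.mem_univ j), ← Finset.mul_prod_erase _ _ (Finset.mem_univ j),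
    ← mul_assoc]
  congr 1
  · simp [up, pow_succ']
  · exact Finset.prod_congr rfl fun l hl => by rw [up, Function.update_of_ne (Finset.ne_of_mem_erase hl)]

theorem pw_up (I : Fin n → Ideal R) (i : Fin n → ℕ) (j : Fin n) : pw I M (up i j) = I j • pw I M i := by
  rw [pw, prod_up, Submodule.mul_smul]

theorem pw_up_le (I : Fin n → Ideal R) (i : Fin n → ℕ) (j : Fin n) : pw I M (up i j) ≤ pw I M i :=
  (pw_up I i j).trans_le Submodule.smul_le_right

theorem smul_mem_pw {I : Fin n → Ideal R} {i : Fin n → ℕ} {j : Fin n} {y : R} (hy : y ∈ I j) {x : M}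
    (hx : x ∈ pw I M i) : y • x ∈ pw I M (up i j) := by
  rw [pw_up]; exact Submodule.smul_mem_smul hy hx

section Rees
variable [IsNoetherianRing R] [Module.Finite R M]

/-- Stable families below `∏ aⱼ ^ iⱼ • M` satisfy the chain condition. -/
theorem wellFoundedGT_pw (I : Fin n → Ideal R) {r : ℕ} (g : Fin r → R) (c : Fin r → Fin n)
    (hspan : ∀ j, I j = Ideal.span (g '' {q | c q = j})) (N : (Fin n → ℕ) → Submodule R M) :
    WellFoundedGT (Stable (pw I M) N g c) := by
  classical
  obtain ⟨s, m, hm⟩ := Submodule.fg_iff_exists_fin_generating_family.1 (Module.Finite.fg_top (R := R) (M := M))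
  let Φ : MvPolynomial (Fin r) R →ₐ[R] MvPolynomial (Fin n) R := aeval fun q => C (g q) * X (c q)
  let σ : (Fin n → ℕ) → (Fin n →₀ ℕ) := Finsupp.equivFunOnFinite.symm
  let φ : (Fin n → ℕ) → (Fin s → MvPolynomial (Fin r) R) →ₗ[R] M := fun i =>
    ∑ k, LinearMap.toSpanSingleton R M (m k) ∘ₗ MvPolynomial.lcoeff R (σ i) ∘ₗ Φ.toLinearMap ∘ₗ LinearMap.proj k
  have hφ : ∀ i v, φ i v = ∑ k, coeff (σ i) (Φ (v k)) • m k := fun i v => by
    simp [φ, LinearMap.sum_apply]
  have hX : ∀ q i v, φ (up i (c q)) ((X q : MvPolynomial (Fin r) R) • v) = g q • φ i v := fun q i v => by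
    rw [hφ, hφ, Finset.smul_sum]
    refine Finset.sum_congr rfl fun k _ => ?_
    rw [smul_smul, Pi.smul_apply, smul_eq_mul, map_mul, aeval_X, mul_assoc, coeff_C_mul,
      show σ (up i (c q)) = Finsupp.single (c q) 1 + σ i by
        ext l
        rcases eq_or_ne l (c q) with rfl | hl
        · simp [σ, up, add_comm]
        · simp [σ, up, Function.update_of_ne hl, hl]]
    rw [coeff_X_mul]
  have hX0 : ∀ q i v, i (c q) = 0 → φ i ((X q : MvPolynomial (Fin r) R) • v) = 0 := fun q i v hi => by
    rw [hφ]
    refine Finset.sum_eq_zero fun k _ => ?_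
    rw [Pi.smul_apply, smul_eq_mul, map_mul, aeval_X, mul_assoc, coeff_C_mul, coeff_X_mul',
      if_neg (by simp [σ, hi]), mul_zero, zero_smul]
  let K : Stable (pw I M) N g c → Submodule (MvPolynomial (Fin r) R) (Fin s → MvPolynomial (Fin r) R) :=
    fun U =>
    { carrier := {v | ∀ i, φ i v ∈ U.1 i}
      add_mem' := fun {v w} hv hw i => by rw [map_add]; exact add_mem (hv i) (hw i)
      zero_mem' := fun i => by rw [map_zero]; exact zero_mem _
      smul_mem' := fun p v hv => by
        revert v
        induction p using MvPolynomial.induction_on with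
        | C t => intro v hv i; rw [← algebraMap_eq, algebraMap_smul, map_smul]; exact Submodule.smul_mem _ _ (hv i)
        | add p q hp hq => intro v hv i; rw [add_smul, map_add]; exact add_mem (hp v hv i) (hq v hv i)
        | mul_X p q hp =>
          intro v hv i
          rw [mul_smul]
          refine hp _ (fun l => ?_) i
          rcases Nat.eq_zero_or_pos (l (c q)) with hl | hl
          · rw [hX0 q l v hl]; exact zero_mem _
          · have hl' : l = up (Function.update l (c q) (l (c q) - 1)) (c q) := by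
              simp only [up, Function.update_self, Function.update_idem]
              rw [show l (c q) - 1 + 1 = l (c q) by omega, Function.update_eq_self]
            rw [hl', hX]
            exact U.2.2.2 q _ _ (hv _) }
  have himg : ∀ (d : ℕ) (i : Fin n → ℕ), ∑ j, i j = d → pw I M i ≤ LinearMap.range (φ i) := by
    intro d
    induction d with
    | zero =>
      intro i hi
      have hi0 : i = 0 := funext fun j => (Finset.sum_eq_zero_iff.1 hi) j (Finset.mem_univ _)
      refine le_top.trans (hm ▸ Submodule.span_le.2 ?_)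
      rintro _ ⟨k, rfl⟩
      refine ⟨Pi.single k 1, ?_⟩
      rw [hφ, Finset.sum_eq_single k (fun l _ hl => by simp [hl]) (by simp)]
      have hσ : σ i = 0 := by ext l; simp [σ, hi0]
      simp [hσ]
    | succ d ih =>
      intro i hi
      obtain ⟨j, hj⟩ : ∃ j, 0 < i j := by
        by_contra h
        push Not at h
        rw [Finset.sum_eq_zero fun j _ => Nat.le_zero.1 (h j)] at hi
        omega
      obtain ⟨i', rfl⟩ : ∃ i', i = up i' j := ⟨Function.update i j (i j - 1), by
        simp only [up, Function.update_self, Function.update_idem]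
        rw [show i j - 1 + 1 = i j by omega, Function.update_eq_self]⟩
      have hd : ∑ l, i' l = d := by
        have h1 := hi
        rw [← Finset.add_sum_erase _ _ (Finset.mem_univ j)] at h1 ⊢
        rw [Finset.sum_congr rfl (g := i') fun l hl => by
          rw [up, Function.update_of_ne (Finset.ne_of_mem_erase hl)]] at h1
        simp only [up, Function.update_self] at h1 ⊢
        change _ + ∑ x ∈ Finset.univ.erase j, i' x = _ at h1
        omega
      rw [pw_up, Submodule.smul_le]
      intro y hy x hx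
      obtain ⟨v, rfl⟩ := ih i' hd hx
      rw [hspan j] at hy
      induction hy using Submodule.span_induction with
      | mem y hy =>
        obtain ⟨q, rfl, rfl⟩ := hy
        exact ⟨_, hX q i' v⟩
      | zero => rw [zero_smul]; exact zero_mem _
      | add y z _ _ hy hz => rw [add_smul]; exact add_mem hy hz
      | smul t y _ hy => rw [smul_assoc]; exact Submodule.smul_mem _ t hy
  have hK : StrictMono K := Monotone.strictMono_of_injective (fun U V h v hv i => h i (hv i)) fun U V h => by
    suffices key : ∀ U V : Stable (pw I M) N g c, K U ≤ K V → ∀ i, U.1 i ≤ V.1 i from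
      Subtype.ext (funext fun i => le_antisymm (key U V h.le i) (key V U h.ge i))
    intro U V hUV i u hu
    obtain ⟨v, rfl⟩ := himg _ i rfl (U.2.2.1 i hu)
    -- cut `v` down to the degree `i` part
    let v' : Fin s → MvPolynomial (Fin r) R := fun k =>
      ∑ e ∈ (v k).support.filter (fun e => Finsupp.mapDomain c e = σ i), monomial e ((v k).coeff e)
    have hmono : ∀ (e : Fin r →₀ ℕ) (t : R), ∃ t' : R, Φ (monomial e t) = monomial (Finsupp.mapDomain c e) t' :=
      fun e t => by
        refine ⟨t * e.prod fun q k => g q ^ k, ?_⟩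
        rw [aeval_monomial, monomial_eq, Finsupp.prod_mapDomain_index (fun _ => pow_zero _) (fun _ _ _ => pow_add _ _ _),
          map_mul, algebraMap_eq, Finsupp.prod, Finsupp.prod, Finsupp.prod, map_prod, mul_assoc,
          ← Finset.prod_mul_distrib]
        exact congrArg _ (Finset.prod_congr rfl fun q _ => by rw [mul_pow, map_pow])
    have hc : ∀ (k : Fin s) (l : Fin n → ℕ),
        coeff (σ l) (Φ (v' k)) = if l = i then coeff (σ i) (Φ (v k)) else 0 := fun k l => by
      simp only [v', map_sum, coeff_sum]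
      conv_rhs => rw [(v k).as_sum, map_sum, coeff_sum]
      split_ifs with hl
      · subst hl
        rw [Finset.sum_filter]
        refine Finset.sum_congr rfl fun e _ => ?_
        split_ifs with he
        · rfl
        · obtain ⟨t, ht⟩ := hmono e ((v k).coeff e)
          rw [ht, coeff_monomial, if_neg he]
      · refine Finset.sum_eq_zero fun e he => ?_
        obtain ⟨t, ht⟩ := hmono e ((v k).coeff e)
        rw [ht, coeff_monomial, if_neg fun h' => hl (Finsupp.equivFunOnFinite.symm.injective
          (h'.symm.trans (Finset.mem_filter.1 he).2))]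
    have h1 : φ i v' = φ i v := by
      rw [hφ, hφ]; exact Finset.sum_congr rfl fun k _ => by rw [hc, if_pos rfl]
    have h2 : v' ∈ K U := fun l => by
      rcases eq_or_ne l i with rfl | hl
      · rw [h1]; exact hu
      · rw [hφ]
        rw [Finset.sum_eq_zero fun k _ => by rw [hc, if_neg hl, zero_smul]]
        exact zero_mem _
    exact h1 ▸ hUV h2 i
  exact hK.wellFoundedGT

end Rees

theorem quot_len_add {P N : Submodule R M} (h : N ≤ P) (hfin : Module.length R (M ⧸ N) ≠ ⊤) :
    CommAlgDim.len R (M ⧸ N) = qlen P N + CommAlgDim.len R (M ⧸ P) := by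
  refine CommAlgDim.len_add hfin (Submodule.mapQ _ _ P.subtype le_rfl) (Submodule.factor h) ?_
    (Submodule.factor_surjective h) ?_
  · rw [injective_iff_map_eq_zero]
    intro z hz
    obtain ⟨x, rfl⟩ := Submodule.mkQ_surjective _ z
    rw [Submodule.mkQ_apply, Submodule.mapQ_apply, Submodule.Quotient.mk_eq_zero] at hz
    exact (Submodule.Quotient.mk_eq_zero _).2 hz
  · intro z
    obtain ⟨x, rfl⟩ := Submodule.mkQ_surjective _ z
    constructor
    · intro hx
      exact ⟨Submodule.Quotient.mk ⟨x, (Submodule.Quotient.mk_eq_zero P).1 hx⟩, rfl⟩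
    · rintro ⟨y, hy⟩
      obtain ⟨y, rfl⟩ := Submodule.mkQ_surjective _ y
      rw [← hy]
      exact (Submodule.Quotient.mk_eq_zero P).2 y.2

theorem evP_length_pw [IsNoetherianRing R] [Module.Finite R M] (I : Fin n → Ideal R)
    (hfin : ∀ i, Module.length R (M ⧸ pw I M i) ≠ ⊤) :
    EvP (fun i => (CommAlgDim.len R (M ⧸ pw I M i) : ℚ)) := by
  classical
  choose t ht using fun j => IsNoetherian.noetherian (I j)
  let T := (j : Fin n) × (t j)
  obtain ⟨r, ⟨e⟩⟩ : ∃ r, Nonempty (Fin r ≃ T) := ⟨_, ⟨(Fintype.equivFin T).symm⟩⟩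
  let g : Fin r → R := fun q => (e q).2
  let c : Fin r → Fin n := fun q => (e q).1
  have hspan : ∀ j, I j = Ideal.span (g '' {q | c q = j}) := fun j => by
    rw [← ht j]
    refine congrArg Ideal.span (Set.ext fun x => ⟨fun hx => ?_, ?_⟩)
    · refine ⟨e.symm ⟨j, ⟨x, hx⟩⟩, by simp [c], ?_⟩
      show (((e (e.symm ⟨j, ⟨x, hx⟩⟩)).2 : _) : R) = x
      rw [e.apply_symm_apply]
    · rintro ⟨q, rfl, rfl⟩
      exact (e q).2.2
  have hg : ∀ q, g q ∈ I (c q) := fun q => by rw [hspan]; exact Ideal.subset_span ⟨q, rfl, rfl⟩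
  refine evP_of_diff fun j => ?_
  refine (exists_evP r (pw I M) (fun i => pw I M (up i j)) g c (fun i => pw_up_le I i j)
    (fun q i x hx => smul_mem_pw (hg q) hx)
    (fun q i x hx => by rw [up_comm i (c q) j]; exact smul_mem_pw (hg q) hx)
    (fun i => ne_top_of_le_ne_top (hfin (up i j)) (Module.length_le_of_injective
      (Submodule.mapQ _ _ (pw I M i).subtype le_rfl) ?_))
    (wellFoundedGT_pw I g c hspan _)).congr (m' := 0) fun i _ => ?_
  · rw [injective_iff_map_eq_zero]
    intro z hz
    obtain ⟨x, rfl⟩ := Submodule.mkQ_surjective _ z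
    rw [Submodule.mkQ_apply, Submodule.mapQ_apply, Submodule.Quotient.mk_eq_zero] at hz
    exact (Submodule.Quotient.mk_eq_zero _).2 hz
  · have h := quot_len_add (pw_up_le I i j) (hfin (up i j))
    show ((CommAlgDim.len R (M ⧸ pw I M (up i j)) : ℕ) : ℚ) - _ = _
    rw [h]
    push_cast
    exact add_sub_cancel_right _ _

theorem aeval_ray_monomial (v : Fin n → ℚ) (e : Fin n →₀ ℕ) (a : ℚ) :
    aeval (fun j => Polynomial.C (v j) * Polynomial.X) (monomial e a) =
      Polynomial.C (eval v (monomial e a)) * Polynomial.X ^ e.degree := by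
  rw [aeval_monomial, eval_monomial, Finsupp.prod, Finsupp.prod, map_mul, map_prod,
    ← Polynomial.C_eq_algebraMap, mul_assoc,
    show (Polynomial.X : Polynomial ℚ) ^ e.degree = ∏ j ∈ e.support, Polynomial.X ^ e j from
      (Finset.prod_pow_eq_pow_sum _ _ _).symm,
    ← Finset.prod_mul_distrib]
  exact congrArg _ (Finset.prod_congr rfl fun j _ => by rw [mul_pow, Polynomial.C_pow])

/-- The coefficients along a ray are the values of the homogeneous components. -/
theorem coeff_ray (v : Fin n → ℚ) (P : MvPolynomial (Fin n) ℚ) (D : ℕ) :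
    (aeval (fun j => Polynomial.C (v j) * Polynomial.X) P).coeff D = eval v (homogeneousComponent D P) := by
  induction P using MvPolynomial.induction_on' with
  | monomial e a =>
    rw [aeval_ray_monomial, Polynomial.coeff_C_mul_X_pow,
      homogeneousComponent_of_mem (isHomogeneous_monomial a rfl)]
    rcases eq_or_ne D e.degree with h | h
    · simp [h]
    · simp [h]
  | add p q hp hq => simp [hp, hq]

/-- The total degree is detected on rays through positive integral points. -/
theorem totalDegree_le_of_ray {P : MvPolynomial (Fin n) ℚ} {d : ℕ}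
    (h : ∀ v : Fin n → ℕ, (∀ j, 0 < v j) →
      (aeval (fun j => Polynomial.C (v j : ℚ) * Polynomial.X) P).natDegree ≤ d) :
    P.totalDegree ≤ d := by
  classical
  by_contra hlt
  push Not at hlt
  set D := P.totalDegree with hD
  have h0 : homogeneousComponent D P ≠ 0 := by
    obtain ⟨e, he, hed⟩ := Finset.exists_mem_eq_sup P.support
      (MvPolynomial.support_nonempty.2 fun h0 => by simp [hD, h0] at hlt) (fun e => e.degree)
    intro h0
    have h1 := congrArg (coeff e) h0
    rw [coeff_homogeneousComponent, if_pos, coeff_zero] at h1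
    · exact mem_support_iff.1 he h1
    · rw [← hed, hD]; rfl
  apply h0
  refine MvPolynomial.funext_set (fun _ => Nat.cast '' {k : ℕ | 0 < k}) (fun _ => ?_) fun x hx => ?_
  · exact (Set.Ioi_infinite 0).image Nat.cast_injective.injOn
  · choose v hv hvx using fun j => hx j trivial
    rw [show x = fun j => (v j : ℚ) from funext fun j => (hvx j).symm, map_zero, ← coeff_ray]
    exact Polynomial.coeff_eq_zero_of_natDegree_lt ((h v hv).trans_lt hlt)

/-- The mixed Hilbert–Samuel polynomial. -/
theorem exists_mixedHS (A : Type u) [CommRing A] [IsNoetherianRing A] [IsLocalRing A]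
    (d : ℕ) (hd : ringKrullDim A = d) (a : Fin n → Ideal A)
    (ha : ∀ j, a j ≤ IsLocalRing.maximalIdeal A ∧ ∃ N : ℕ, IsLocalRing.maximalIdeal A ^ N ≤ a j)
    (M : Type u) [AddCommGroup M] [Module A M] [Module.Finite A M] :
    ∃ P : MvPolynomial (Fin n) ℚ, P.totalDegree ≤ d ∧
      ∃ m : Fin n → ℕ, ∀ i : Fin n → ℕ, (∀ j, m j ≤ i j) →
        ∃ ℓ : ℕ, Module.length A (M ⧸ ((∏ j, a j ^ i j) • (⊤ : Submodule A M))) = ℓ ∧
          (ℓ : ℚ) = MvPolynomial.eval (fun j => (i j : ℚ)) P := by
  classical
  rcases subsingleton_or_nontrivial M with hM | hM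
  · exact ⟨0, by simp, 0, fun i _ => ⟨0, by simp [Module.length_eq_zero], by simp⟩⟩
  choose e he using fun j => (ha j).2
  let J := IsLocalRing.maximalIdeal A
  let E := Finset.univ.sup e + 1
  have hle : ∀ i : Fin n → ℕ, J ^ (E * ∑ j, i j) • (⊤ : Submodule A M) ≤ pw a M i := fun i => by
    refine Submodule.smul_mono_left ?_
    rw [pow_mul, ← Finset.prod_pow_eq_pow_sum]
    exact Finset.prod_le_prod' fun j _ => Ideal.pow_right_mono
      ((Ideal.pow_le_pow_right ((Finset.le_sup (Finset.mem_univ j)).trans (Nat.le_succ _))).trans (he j)) _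
  have hJ : Ring.jacobson A = J := IsLocalRing.ringJacobson_eq_maximalIdeal A
  have h1 : Module.length A (M ⧸ J • (⊤ : Submodule A M)) ≠ ⊤ :=
    hJ ▸ CommAlgDim.length_quotient_jacobson_ne_top
  have hfin : ∀ i, Module.length A (M ⧸ pw a M i) ≠ ⊤ := fun i =>
    ne_top_of_le_ne_top (CommAlgDim.length_quotient_ne_top h1 _)
      (Module.length_le_of_surjective _ (Submodule.factor_surjective (hle i)))
  obtain ⟨P, m, hP⟩ := evP_length_pw a hfin
  obtain ⟨q, hq⟩ := CommAlgDim.exists_isHSPoly_jacobson (R := A) M
  have hqd : q.natDegree ≤ d := by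
    have := (CommAlgDim.natDegree_eq_supportDim hq).trans_le ((Module.supportDim_le_ringKrullDim A M).trans hd.le)
    exact_mod_cast this
  rw [hJ] at hq
  refine ⟨P, ?_, m, fun i hi => ⟨_, (CommAlgDim.coe_len (hfin i)).symm, hP i hi⟩⟩
  rcases Nat.eq_zero_or_pos n with hn | hn
  · subst hn
    rw [MvPolynomial.eq_C_of_isEmpty P, MvPolynomial.totalDegree_C]
    exact Nat.zero_le _
  refine totalDegree_le_of_ray fun v hv => ?_
  set S := E * ∑ j, v j with hS
  refine le_trans ?_ ((le_of_eq (Polynomial.natDegree_comp (p := q) (q := Polynomial.C (S : ℚ) * Polynomial.X))).trans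
    ((Nat.mul_le_mul hqd ((Polynomial.natDegree_C_mul_le _ _).trans Polynomial.natDegree_X_le)).trans
      (mul_one d).le))
  have hev : ∀ t : ℕ, (aeval (fun j => Polynomial.C (v j : ℚ) * Polynomial.X) P).eval (t : ℚ) =
      eval (fun j => ((t * v j : ℕ) : ℚ)) P := fun t => by
    rw [← Polynomial.coe_evalRingHom, MvPolynomial.map_aeval]
    simp only [Polynomial.coe_evalRingHom, Polynomial.eval_mul, Polynomial.eval_C, Polynomial.eval_X,
      Nat.cast_mul, mul_comm (t : ℚ)]
    refine congrArg (fun f => eval₂Hom f _ P) (RingHom.ext fun x => ?_)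
    simp
  have hle' : ∀ t : ℕ, Finset.univ.sup m ≤ t → m ≤ fun j => t * v j := fun t ht j =>
    ((Finset.le_sup (Finset.mem_univ j)).trans ht).trans (Nat.le_mul_of_pos_right _ (hv j))
  refine CommAlgDim.natDegree_le_of_eventually_le ?_ ?_
  · filter_upwards [Filter.eventually_ge_atTop (Finset.univ.sup m)] with t ht
    rw [hev, ← hP _ (hle' t ht)]
    exact Nat.cast_nonneg _
  · have hS0 : 0 < S := Nat.mul_pos (Nat.succ_pos _)
      (Finset.sum_pos (fun j _ => hv j) ⟨⟨0, hn⟩, Finset.mem_univ _⟩)
    filter_upwards [Filter.eventually_ge_atTop (Finset.univ.sup m),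
      (Filter.tendsto_id.const_mul_atTop' hS0).eventually hq] with t ht htq
    rw [hev, ← hP _ (hle' t ht)]
    simp only [Polynomial.eval_comp, Polynomial.eval_mul, Polynomial.eval_C, Polynomial.eval_X,
      id] at htq ⊢
    rw [← Nat.cast_mul, ← htq, Nat.cast_le]
    refine CommAlgDim.len_le_of_surjective (CommAlgDim.length_quotient_ne_top h1 _) _
      (Submodule.factor_surjective (le_trans (le_of_eq ?_) (hle _)))
    rw [hS, ← Finset.mul_sum]
    congr 2
    ring

end MixedHSLib
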