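import Groth.Agent.MixedHSLib.EvPoly
import Groth.Agent.CommAlgDim.GrFamily

/-!
# Multigraded families of subquotients
-/

set_option autoImplicit false

universe u v

namespace MixedHSLib

variable {R : Type u} [CommRing R] {M : Type v} [AddCommGroup M] [Module R M] {n : ℕ}

/-- The degree `i + e_j`. -/
abbrev up (i : Fin n → ℕ) (j : Fin n) : Fin n → ℕ := Function.update i j (i j + 1)

/-- The length of the subquotient `P / N`. -/
noncomputable def qlen (P N : Submodule R M) : ℕ := CommAlgDim.len R (↥P ⧸ N.comap P.subtype)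

/-- Families between `N` and `P` stable under multiplication by the `a q`. -/
abbrev Stable {r : ℕ} (P N : (Fin n → ℕ) → Submodule R M) (a : Fin r → R) (c : Fin r → Fin n) : Type v :=
  {U : (Fin n → ℕ) → Submodule R M //
    (∀ i, N i ≤ U i) ∧ (∀ i, U i ≤ P i) ∧ ∀ q i, ∀ x ∈ U i, a q • x ∈ U (up i (c q))}

theorem length_subquot_ne_top {P N P' N' : Submodule R M} (hP : P ≤ P') (hN : N' ≤ N)
    (h : Module.length R (↥P' ⧸ N'.comap P'.subtype) ≠ ⊤) :
    Module.length R (↥P ⧸ N.comap P.subtype) ≠ ⊤ := by
  have h1 : Module.length R (↥P ⧸ N'.comap P.subtype) ≠ ⊤ := by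
    refine ne_top_of_le_ne_top h (Module.length_le_of_injective
      (Submodule.mapQ _ (N'.comap P'.subtype) (Submodule.inclusion hP) fun x hx => hx) ?_)
    rw [injective_iff_map_eq_zero]
    intro z hz
    obtain ⟨x, rfl⟩ := Submodule.mkQ_surjective _ z
    rw [Submodule.mkQ_apply, Submodule.mapQ_apply, Submodule.Quotient.mk_eq_zero] at hz
    exact (Submodule.Quotient.mk_eq_zero _).2 hz
  exact ne_top_of_le_ne_top h1 (Module.length_le_of_surjective _
    (Submodule.factor_surjective (Submodule.comap_mono hN)))

/-- The four term exact sequence of multiplication by `a` between consecutive degrees. -/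
theorem qlen_step {P₁ N₁ P₂ N₂ : Submodule R M} (a : R) (hNP₂ : N₂ ≤ P₂)
    (ha : P₁.map (LinearMap.lsmul R M a) ≤ P₂) (haN : N₁.map (LinearMap.lsmul R M a) ≤ N₂)
    (h1 : Module.length R (↥P₁ ⧸ N₁.comap P₁.subtype) ≠ ⊤)
    (h2 : Module.length R (↥P₂ ⧸ N₂.comap P₂.subtype) ≠ ⊤) :
    qlen P₂ N₂ + qlen (P₁ ⊓ N₂.comap (LinearMap.lsmul R M a)) N₁ =
      qlen P₁ N₁ + qlen P₂ (N₂ ⊔ P₁.map (LinearMap.lsmul R M a)) := by
  let m : P₁ →ₗ[R] P₂ := (LinearMap.lsmul R M a).restrict fun x hx => ha ⟨x, hx, rfl⟩
  let f : (↥P₁ ⧸ N₁.comap P₁.subtype) →ₗ[R] (↥P₂ ⧸ N₂.comap P₂.subtype) :=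
    Submodule.mapQ _ _ m fun x hx => haN ⟨(x : M), hx, rfl⟩
  let K := P₁ ⊓ N₂.comap (LinearMap.lsmul R M a)
  let ι : (↥K ⧸ N₁.comap K.subtype) →ₗ[R] (↥P₁ ⧸ N₁.comap P₁.subtype) :=
    Submodule.mapQ _ _ (Submodule.inclusion inf_le_left) fun x hx => hx
  have hι : Function.Injective ι := by
    rw [injective_iff_map_eq_zero]
    intro z hz
    obtain ⟨x, rfl⟩ := Submodule.mkQ_surjective _ z
    simp only [ι, Submodule.mkQ_apply, Submodule.mapQ_apply, Submodule.Quotient.mk_eq_zero] at hz
    exact (Submodule.Quotient.mk_eq_zero _).2 hz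
  have hex : Function.Exact ι f := by
    intro z
    obtain ⟨x, rfl⟩ := Submodule.mkQ_surjective _ z
    constructor
    · intro hz
      simp only [f, Submodule.mkQ_apply, Submodule.mapQ_apply, Submodule.Quotient.mk_eq_zero] at hz
      exact ⟨Submodule.Quotient.mk ⟨x.1, x.2, hz⟩, rfl⟩
    · rintro ⟨y, hy⟩
      obtain ⟨y, rfl⟩ := Submodule.mkQ_surjective _ y
      rw [← hy]
      exact (Submodule.Quotient.mk_eq_zero _).2 y.2.2
  let π : (↥P₂ ⧸ N₂.comap P₂.subtype) →ₗ[R]
      (↥P₂ ⧸ (N₂ ⊔ P₁.map (LinearMap.lsmul R M a)).comap P₂.subtype) :=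
    Submodule.factor (Submodule.comap_mono le_sup_left)
  have hex2 : Function.Exact f π := by
    intro z
    obtain ⟨x, rfl⟩ := Submodule.mkQ_surjective _ z
    constructor
    · intro hz
      have hz' : (x : M) ∈ N₂ ⊔ P₁.map (LinearMap.lsmul R M a) := (Submodule.Quotient.mk_eq_zero ((N₂ ⊔ P₁.map (LinearMap.lsmul R M a)).comap P₂.subtype)).1 hz
      obtain ⟨y, hy, _, ⟨w, hw, rfl⟩, hsum⟩ := Submodule.mem_sup.1 hz'
      refine ⟨Submodule.Quotient.mk ⟨w, hw⟩, ?_⟩
      show Submodule.Quotient.mk (m ⟨w, hw⟩) = Submodule.Quotient.mk x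
      rw [Submodule.Quotient.eq]
      show a • w - (x : M) ∈ N₂
      have : a • w - (x : M) = -y := by
        rw [← hsum]; simp
      rw [this]
      exact neg_mem hy
    · rintro ⟨y, hy⟩
      obtain ⟨y, rfl⟩ := Submodule.mkQ_surjective _ y
      rw [← hy]
      exact (Submodule.Quotient.mk_eq_zero _).2 (Submodule.mem_sup_right ⟨y.1, y.2, rfl⟩)
  have hk := CommAlgDim.len_ker_add h1 h2 f
  have e1 : CommAlgDim.len R (LinearMap.ker f) = qlen K N₁ := by
    rw [LinearMap.exact_iff.1 hex]
    exact (CommAlgDim.len_congr (LinearEquiv.ofInjective ι hι)).symm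
  have e2 : CommAlgDim.len R ((↥P₂ ⧸ N₂.comap P₂.subtype) ⧸ LinearMap.range f) =
      qlen P₂ (N₂ ⊔ P₁.map (LinearMap.lsmul R M a)) := by
    exact CommAlgDim.len_congr ((Submodule.quotEquivOfEq _ _ (LinearMap.exact_iff.1 hex2).symm).trans
      (LinearMap.quotKerEquivOfSurjective π (Submodule.factor_surjective _)))
  rw [e1, e2] at hk
  exact hk

/-- Multigraded families of finite length with the chain condition have eventually polynomial length. -/
theorem exists_evP : ∀ (r : ℕ) (P N : (Fin n → ℕ) → Submodule R M) (a : Fin r → R) (c : Fin r → Fin n),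
    (∀ i, N i ≤ P i) → (∀ q i, ∀ x ∈ P i, a q • x ∈ P (up i (c q))) →
    (∀ q i, ∀ x ∈ N i, a q • x ∈ N (up i (c q))) →
    (∀ i, Module.length R (↥(P i) ⧸ (N i).comap (P i).subtype) ≠ ⊤) →
    WellFoundedGT (Stable P N a c) → EvP (fun i => (qlen (P i) (N i) : ℚ)) := by
  classical
  intro r
  induction r using Nat.strong_induction_on with
  | _ r ih =>
  intro P N a c hNP haP haN hfin hacc
  by_cases hl : ∃ l, ∀ q, c q ≠ l
  · obtain ⟨l, hl⟩ := hl
    let U : ℕ →o Stable P N a c :=
      ⟨fun k => ⟨fun i => if i l < k then P i else N i, fun i => by dsimp only; split_ifs <;> simp [hNP i],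
          fun i => by dsimp only; split_ifs <;> simp [hNP i], fun q i x hx => by
            simp only [up, Function.update_of_ne (hl q).symm]
            split_ifs with h
            · exact haP q i x (by simpa [h] using hx)
            · exact haN q i x (by simpa [h] using hx)⟩,
        fun k k' hkk i => by
          dsimp only
          split_ifs with h1 h2 <;> first | exact le_rfl | exact hNP i | omega⟩
    obtain ⟨k, hk⟩ := hacc.monotone_chain_condition U
    refine ⟨0, fun _ => k, fun i hi => ?_⟩
    have h1 : N i = P i := by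
      have := congrFun (congrArg Subtype.val (hk (i l + 1) ((hi l).trans (Nat.le_succ _)))) i
      simpa [U, not_lt.2 (hi l)] using this
    have : Subsingleton (↥(P i) ⧸ (N i).comap (P i).subtype) := by
      rw [Submodule.Quotient.subsingleton_iff, h1]
      simp
    simp [qlen, CommAlgDim.len_eq_zero]
  · push Not at hl
    refine evP_of_diff fun l => ?_
    obtain ⟨q₀, rfl⟩ := hl l
    obtain ⟨r, rfl⟩ := Nat.exists_eq_add_one.2 q₀.pos
    replace ih := ih r (Nat.lt_succ_self r)
    let j := c q₀
    let μ := LinearMap.lsmul R M (a q₀)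
    have hcomm : ∀ i (q : Fin (r + 1)), up (up i (c q)) j = up (up i j) (c q) := fun i q => by
      rcases eq_or_ne (c q) j with h | h
      · rw [h]
      · simp only [up, Function.update_of_ne h, Function.update_of_ne h.symm]
        exact Function.update_comm h _ _ _
    -- kernel family
    let PK : (Fin n → ℕ) → Submodule R M := fun i => P i ⊓ (N (up i j)).comap μ
    have hNK : ∀ i, N i ≤ PK i := fun i => le_inf (hNP i) fun x hx => haN _ i x hx
    have hPK : ∀ q i, ∀ x ∈ PK i, a q • x ∈ PK (up i (c q)) := fun q i x hx => by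
      refine ⟨haP q i x hx.1, ?_⟩
      show a (q₀) • a q • x ∈ N (up (up i (c q)) j)
      rw [hcomm, smul_comm]
      exact haN q _ _ hx.2
    have hK : WellFoundedGT (Stable PK N (a ∘ q₀.succAbove) (c ∘ q₀.succAbove)) := by
      let F : Stable PK N (a ∘ q₀.succAbove) (c ∘ q₀.succAbove) → Stable P N a c := fun U =>
        ⟨U.1, U.2.1, fun i => (U.2.2.1 i).trans inf_le_left, fun q => by
          refine Fin.succAboveCases q₀ ?_ (fun q => ?_) q
          · intro i x hx
            exact U.2.1 _ (U.2.2.1 i hx).2
          · exact U.2.2.2 q⟩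
      have hF : StrictMono F := Monotone.strictMono_of_injective (fun U V h => h)
        fun U V h => Subtype.ext (congrArg (fun W : Stable P N a c => W.1) h : _)
      exact hF.wellFoundedGT
    -- cokernel family
    let NC : (Fin n → ℕ) → Submodule R M := fun i => N (up i j) ⊔ (P i).map μ
    let PC : (Fin n → ℕ) → Submodule R M := fun i => P (up i j)
    have hμP : ∀ i, (P i).map μ ≤ P (up i j) := fun i => Submodule.map_le_iff_le_comap.2 (haP _ i)
    have hμN : ∀ i, (N i).map μ ≤ N (up i j) := fun i => Submodule.map_le_iff_le_comap.2 (haN _ i)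
    have hNC : ∀ i, NC i ≤ PC i := fun i => sup_le (hNP _) (hμP i)
    have haNC : ∀ q i, ∀ x ∈ NC i, a q • x ∈ NC (up i (c q)) := fun q i x hx => by
      obtain ⟨y, hy, _, ⟨w, hw, rfl⟩, rfl⟩ := Submodule.mem_sup.1 hx
      rw [smul_add]
      refine Submodule.add_mem_sup ?_ ⟨a q • w, haP q i w hw, smul_comm _ _ _⟩
      rw [hcomm]; exact haN q _ y hy
    have haPC : ∀ q i, ∀ x ∈ PC i, a q • x ∈ PC (up i (c q)) := fun q i x hx => by
      show a q • x ∈ P (up (up i (c q)) j)
      rw [hcomm]; exact haP q _ x hx
    have hC : WellFoundedGT (Stable PC NC (a ∘ q₀.succAbove) (c ∘ q₀.succAbove)) := by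
      let dn : (Fin n → ℕ) → (Fin n → ℕ) := fun i => Function.update i j (i j - 1)
      have hdn : ∀ i, 0 < i j → up (dn i) j = i := fun i hi => by
        simp only [up, dn, Function.update_self, Function.update_idem]
        rw [show i j - 1 + 1 = i j by omega, Function.update_eq_self]
      have hup : ∀ i, dn (up i j) = i := fun i => by
        simp [up, dn, Function.update_idem, Function.update_self, Function.update_eq_self]
      let G : Stable PC NC (a ∘ q₀.succAbove) (c ∘ q₀.succAbove) → (Fin n → ℕ) → Submodule R M :=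
        fun U i => if i j = 0 then N i else U.1 (dn i)
      have hGN : ∀ U i, N i ≤ G U i := fun U i => by
        by_cases hi : i j = 0
        · simp [G, hi]
        · simp only [G, if_neg hi]
          exact (le_sup_left.trans' (by rw [hdn i (Nat.pos_of_ne_zero hi)])).trans (U.2.1 _)
      let F : Stable PC NC (a ∘ q₀.succAbove) (c ∘ q₀.succAbove) → Stable P N a c := fun U =>
        ⟨G U, hGN U, fun i => by
          by_cases hi : i j = 0
          · simpa [G, hi] using hNP i
          · simp only [G, if_neg hi]
            exact (U.2.2.1 _).trans (by rw [show PC (dn i) = P (up (dn i) j) from rfl,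
              hdn i (Nat.pos_of_ne_zero hi)]),
        fun q i x hx => by
          by_cases hi : i j = 0
          · exact hGN U _ (haN q i x (by simpa [G, hi] using hx))
          · simp only [G, if_neg hi] at hx
            have hne : up i (c q) j ≠ 0 := by
              rcases eq_or_ne (c q) j with h | h
              · simp [up, h]
              · simpa [up, Function.update_of_ne h.symm] using hi
            simp only [G, if_neg hne]
            have key : up (dn i) (c q) = dn (up i (c q)) := by
              conv_rhs => rw [← hdn i (Nat.pos_of_ne_zero hi), ← hcomm]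
              rw [hup]
            rw [← key]
            revert key hne
            refine Fin.succAboveCases q₀ ?_ (fun q => ?_) q
            · intro _ _
              have h := U.2.2.1 _ hx
              refine U.2.1 _ (Submodule.mem_sup_right ⟨x, ?_, rfl⟩)
              exact h
            · intro _ _
              exact U.2.2.2 q _ x hx⟩
      have hF : StrictMono F := Monotone.strictMono_of_injective
        (fun U V h i => by
          show G U i ≤ G V i
          simp only [G]
          split_ifs
          · exact le_rfl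
          · exact h _)
        fun U V h => Subtype.ext (funext fun i => by
          have := congrFun (congrArg Subtype.val h) (up i j)
          simpa [F, G, up, hup i] using this)
      exact hF.wellFoundedGT
    have ek := ih PK N _ _ hNK (fun q => hPK (q₀.succAbove q)) (fun q => haN (q₀.succAbove q))
      (fun i => length_subquot_ne_top inf_le_left le_rfl (hfin i)) hK
    have ec := ih PC NC _ _ hNC (fun q => haPC (q₀.succAbove q)) (fun q => haNC (q₀.succAbove q))
      (fun i => length_subquot_ne_top le_rfl le_sup_left (hfin (up i j))) hC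
    have hd : EvP (HilbPolyLib.diff j fun i => (qlen (P i) (N i) : ℚ)) := by
      refine (ec.sub ek).congr (m' := 0) fun i _ => ?_
      have h := congrArg (Nat.cast (R := ℚ))
        (qlen_step (a q₀) (hNP (up i j)) (hμP i) (hμN i) (hfin i) (hfin (up i j)))
      push_cast at h
      show (qlen (P (up i j)) (N (up i j)) : ℚ) - _ = _ - _
      linarith
    exact hd

end MixedHSLib
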